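import Mathlib

/-! Characteristically simple finite groups are the powers of simple groups. -/

set_option autoImplicit false

namespace Cfsg.Agent.Lib.CharSimple

open Subgroup

/-- The normal subgroup `⊥`-or-full test for a coordinate. -/
theorem mulSingle_mem_of_simple {S ι : Type*} [Group S] [IsSimpleGroup S] [DecidableEq ι]
    (H : Subgroup (ι → S)) [H.Normal] (i : ι) (s : S) (hs : s ≠ 1)
    (h : Pi.mulSingle i s ∈ H) (t : S) : Pi.mulSingle i t ∈ H := by
  have hn : (H.comap (MonoidHom.mulSingle (fun _ : ι => S) i)).Normal := Subgroup.Normal.comap ‹_› _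
  rcases hn.eq_bot_or_eq_top with he | he
  · have h' : s ∈ H.comap (MonoidHom.mulSingle (fun _ : ι => S) i) := h
    exact absurd (Subgroup.mem_bot.1 (he ▸ h')) hs
  · exact (he ▸ Subgroup.mem_top t : t ∈ H.comap (MonoidHom.mulSingle (fun _ : ι => S) i))

theorem center_eq_bot {S : Type*} [Group S] [IsSimpleGroup S] (hS : ¬ IsMulCommutative S) :
    Subgroup.center S = ⊥ := by
  rcases (inferInstance : (Subgroup.center S).Normal).eq_bot_or_eq_top with h | h
  · exact h
  · refine absurd (IsMulCommutative.of_comm fun a b => ?_) hS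
    exact Subgroup.mem_center_iff.1 (h ▸ Subgroup.mem_top b) a

/-- A normal subgroup of a power of a non-abelian simple group contains the factor of every
coordinate in its support. -/
theorem mulSingle_mem_of_support {S ι : Type*} [Group S] [IsSimpleGroup S] [DecidableEq ι]
    (hS : ¬ IsMulCommutative S)
    (H : Subgroup (ι → S)) [hn : H.Normal] (x : ι → S) (hx : x ∈ H) (i : ι) (hi : x i ≠ 1) (t : S) :
    Pi.mulSingle i t ∈ H := by
  obtain ⟨s, hs⟩ : ∃ s : S, s * x i ≠ x i * s := by
    by_contra h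
    simp only [not_exists, not_not] at h
    exact hi (Subgroup.mem_bot.1 (center_eq_bot hS ▸ Subgroup.mem_center_iff.2 h))
  refine mulSingle_mem_of_simple H i (s * x i * s⁻¹ * (x i)⁻¹) ?_ ?_ t
  · intro h
    rw [mul_inv_eq_one, mul_inv_eq_iff_eq_mul] at h
    exact hs h
  · have : Pi.mulSingle i (s * x i * s⁻¹ * (x i)⁻¹) =
        Pi.mulSingle i s * x * (Pi.mulSingle i s)⁻¹ * x⁻¹ := by
      ext j
      by_cases hj : j = i
      · subst hj; simp
      · simp [hj]
    rw [this]
    exact H.mul_mem (hn.conj_mem x hx _) (H.inv_mem hx)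

/-- The normal subgroups of a finite power of a non-abelian simple group are the subproducts. -/
theorem normal_pi_eq_subproduct {S ι : Type*} [Group S] [IsSimpleGroup S] [Fintype ι]
    (hS : ¬ IsMulCommutative S) (H : Subgroup (ι → S)) [H.Normal] :
    ∃ T : Finset ι, ∀ x : ι → S, x ∈ H ↔ ∀ i, i ∉ T → x i = 1 := by
  classical
  refine ⟨Finset.univ.filter fun i => ∃ y ∈ H, y i ≠ 1, fun x => ⟨fun hx i hi => ?_, fun hx => ?_⟩⟩
  · by_contra h
    exact hi (Finset.mem_filter.2 ⟨Finset.mem_univ _, x, hx, h⟩)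
  · refine Subgroup.pi_mem_of_mulSingle_mem x fun i => ?_
    by_cases hi : i ∈ Finset.univ.filter fun i => ∃ y ∈ H, y i ≠ 1
    · obtain ⟨y, hy, hyi⟩ := (Finset.mem_filter.1 hi).2
      exact mulSingle_mem_of_support hS H y hy i hyi _
    · rw [hx i hi, Pi.mulSingle_one]; exact H.one_mem

/-- A power of a simple group is characteristically simple. -/
theorem characteristic_pi_eq_bot_or_top {S ι : Type*} [Group S] [IsSimpleGroup S] [Finite ι]
    (H : Subgroup (ι → S)) [hc : H.Characteristic] : H = ⊥ ∨ H = ⊤ := by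
  classical
  by_cases hbot : H = ⊥
  · exact Or.inl hbot
  refine Or.inr ((Subgroup.eq_top_iff' H).2 fun y => Subgroup.pi_mem_of_mulSingle_mem y fun j => ?_)
  obtain ⟨x, hx, hx1⟩ := H.bot_or_exists_ne_one.resolve_left hbot
  obtain ⟨i, hi⟩ : ∃ i, x i ≠ 1 := Function.ne_iff.1 hx1
  have hfix : ∀ (φ : (ι → S) ≃* (ι → S)) (z : ι → S), z ∈ H → φ z ∈ H := fun φ z hz =>
    (Subgroup.characteristic_iff_map_le.1 hc) φ (Subgroup.mem_map_of_mem φ.toMonoidHom hz)
  suffices key : ∃ k, ∃ s : S, s ≠ 1 ∧ Pi.mulSingle k s ∈ H by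
    obtain ⟨k, s, hs, hk⟩ := key
    let φ : (ι → S) ≃* (ι → S) :=
      { toFun := fun z => z ∘ Equiv.swap j k
        invFun := fun z => z ∘ Equiv.swap j k
        left_inv := fun z => by ext; simp
        right_inv := fun z => by ext; simp
        map_mul' := fun z w => rfl }
    have := hfix φ _ hk
    have he : φ (Pi.mulSingle k s) = Pi.mulSingle j s := by
      ext l
      rcases eq_or_ne l j with rfl | hl
      · simp [φ]
      · rcases eq_or_ne l k with rfl | hl'
        · simp [φ, hl, hl.symm]
        · simp [φ, hl, hl', Equiv.swap_apply_of_ne_of_ne]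
    exact mulSingle_mem_of_simple H j s hs (he ▸ this) _
  by_cases hS : IsMulCommutative S
  · by_cases hone : ∀ l, l = i
    · refine ⟨i, x i, hi, ?_⟩
      convert hx using 1
      ext l; rw [hone l, Pi.mulSingle_eq_same]
    · obtain ⟨l, hl⟩ := not_forall.1 hone
      let φ : (ι → S) ≃* (ι → S) :=
        { toFun := fun z => Function.update z l (z l * z i)
          invFun := fun z => Function.update z l (z l * (z i)⁻¹)
          left_inv := fun z => by
            ext m
            rcases eq_or_ne m l with rfl | hm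
            · simp [Function.update_of_ne (Ne.symm hl)]
            · simp [hm]
          right_inv := fun z => by
            ext m
            rcases eq_or_ne m l with rfl | hm
            · simp [Function.update_of_ne (Ne.symm hl)]
            · simp [hm]
          map_mul' := fun z w => by
            ext m
            rcases eq_or_ne m l with rfl | hm
            · simp only [Pi.mul_apply, Function.update_self]
              rw [mul_assoc, mul_assoc, ← mul_assoc (w m), mul_comm' (w m) (z i), mul_assoc]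
            · simp [hm] }
      refine ⟨l, x i, hi, ?_⟩
      have he : x⁻¹ * φ x = Pi.mulSingle l (x i) := by
        ext m
        rcases eq_or_ne m l with rfl | hm
        · simp [φ]
        · simp [φ, hm]
      rw [← he]
      exact H.mul_mem (H.inv_mem hx) (hfix φ x hx)
  · exact ⟨i, x i, hi, mulSingle_mem_of_support hS H x hx i hi _⟩

/-- A maximal normal subgroup of a nontrivial finite group has simple quotient. -/
theorem exists_normal_isSimpleGroup_quotient (G : Type*) [Group G] [Finite G] [Nontrivial G] :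
    ∃ (M : Subgroup G) (_ : M.Normal), IsSimpleGroup (G ⧸ M) := by
  obtain ⟨M, hM, hmax⟩ := (Set.toFinite {N : Subgroup G | N.Normal ∧ N ≠ ⊤}).exists_maximal
    ⟨⊥, inferInstance, bot_ne_top⟩
  haveI := hM.1
  refine ⟨M, hM.1, ?_⟩
  haveI : Nontrivial (G ⧸ M) := QuotientGroup.nontrivial_iff.2 hM.2
  refine { eq_bot_or_eq_top_of_normal := fun K hK => ?_ }
  set N := K.comap (QuotientGroup.mk' M) with hN
  have hMN : M ≤ N := fun x hx => by
    simp [hN, Subgroup.mem_comap, (QuotientGroup.eq_one_iff x).2 hx]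
  have hmap : N.map (QuotientGroup.mk' M) = K :=
    Subgroup.map_comap_eq_self_of_surjective (QuotientGroup.mk'_surjective M) K
  by_cases h : N = ⊤
  · exact Or.inr (by rw [← hmap, h, Subgroup.map_top_of_surjective _ (QuotientGroup.mk'_surjective M)])
  · have := le_antisymm hMN (hmax ⟨hK.comap _, h⟩ hMN)
    exact Or.inl (by rw [← hmap, ← this, QuotientGroup.map_mk'_self])

/-- A nontrivial finite characteristically simple group is a power of a simple group. -/
theorem exists_mulEquiv_pi {G : Type*} [Group G] [Finite G] [Nontrivial G]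
    (h : ∀ H : Subgroup G, H.Characteristic → H = ⊥ ∨ H = ⊤) :
    ∃ (S : Type) (_ : Group S) (_ : IsSimpleGroup S) (n : ℕ), 1 ≤ n ∧ Nonempty (G ≃* (Fin n → S)) := by
  classical
  obtain ⟨M, hMn, hMs⟩ := exists_normal_isSimpleGroup_quotient G
  haveI := hMn
  haveI : Fintype (MulAut G) := Fintype.ofFinite _
  have hKn : ∀ φ : MulAut G, (M.comap φ.toMonoidHom).Normal := fun φ => hMn.comap _
  let K : Finset (MulAut G) → Subgroup G := fun s => ⨅ φ ∈ s, M.comap φ.toMonoidHom
  have hK : ∀ s x, x ∈ K s ↔ ∀ φ ∈ s, φ x ∈ M := fun s x => by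
    simp [K, Subgroup.mem_iInf]
  have hKu : K Finset.univ = ⊥ := by
    have hc : (K Finset.univ).Characteristic := by
      refine Subgroup.characteristic_iff_le_comap.2 fun ψ x hx => ?_
      refine (hK _ _).2 fun φ _ => ?_
      exact (hK _ _).1 hx (φ * ψ) (Finset.mem_univ _)
    refine (h _ hc).resolve_right fun ht => ?_
    refine (Subgroup.eq_top_iff' M).not.1 ?_ fun x => ?_
    · exact QuotientGroup.nontrivial_iff.1 hMs.toNontrivial
    · simpa using (hK _ _).1 (ht ▸ Subgroup.mem_top x) 1 (Finset.mem_univ _)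
  obtain ⟨s, hs, hmin⟩ := (Set.toFinite {s : Finset (MulAut G) | K s = ⊥}).exists_minimal
    ⟨_, hKu⟩
  let f : G →* (s → G ⧸ M) :=
    MonoidHom.pi fun φ : s => (QuotientGroup.mk' M).comp (φ : MulAut G).toMonoidHom
  have hinj : Function.Injective f := by
    rw [← MonoidHom.ker_eq_bot_iff, eq_bot_iff, ← (hs : K s = ⊥)]
    intro x hx
    refine (hK _ _).2 fun φ hφ => ?_
    exact (QuotientGroup.eq_one_iff _).1 (congrFun hx ⟨φ, hφ⟩)
  have hsurj : Function.Surjective f := by
    intro y
    refine MonoidHom.mem_range.1 (Subgroup.pi_mem_of_mulSingle_mem (H := f.range) y fun φ₀ => ?_)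
    let g : G →* G ⧸ M := (QuotientGroup.mk' M).comp (φ₀ : MulAut G).toMonoidHom
    have hg : Function.Surjective g :=
      (QuotientGroup.mk'_surjective M).comp (φ₀ : MulAut G).surjective
    have hn : (K (s.erase φ₀)).Normal := ⟨fun x hx b => (hK _ _).2 fun φ hφ => by
      rw [map_mul, map_mul, map_inv]; exact hMn.conj_mem _ ((hK _ _).1 hx φ hφ) _⟩
    have hne : (K (s.erase φ₀)).map g ≠ ⊥ := by
      intro he
      have : K (s.erase φ₀) = ⊥ := by
        rw [eq_bot_iff, ← (hs : K s = ⊥)]
        intro x hx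
        refine (hK _ _).2 fun φ hφ => ?_
        by_cases hφ₀ : φ = φ₀
        · subst hφ₀
          exact (QuotientGroup.eq_one_iff _).1
            (Subgroup.mem_bot.1 (he ▸ Subgroup.mem_map_of_mem g hx))
        · exact (hK _ _).1 hx φ (Finset.mem_erase.2 ⟨hφ₀, hφ⟩)
      have := hmin this (Finset.erase_subset _ _) φ₀.2
      exact (Finset.mem_erase.1 this).1 rfl
    have htop := ((hn.map g hg).eq_bot_or_eq_top).resolve_left hne
    obtain ⟨x, hx, hxe⟩ := Subgroup.mem_map.1 (htop ▸ Subgroup.mem_top (y φ₀))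
    refine ⟨x, funext fun φ => ?_⟩
    rcases eq_or_ne φ φ₀ with rfl | hφ
    · rw [Pi.mulSingle_eq_same]; exact hxe
    · rw [Pi.mulSingle_eq_of_ne hφ]
      exact (QuotientGroup.eq_one_iff _).2
        ((hK _ _).1 hx φ (Finset.mem_erase.2 ⟨fun e => hφ (Subtype.ext e), φ.2⟩))
  let e : G ≃* (Fin s.card → Shrink.{0} (G ⧸ M)) :=
    (MulEquiv.ofBijective f ⟨hinj, hsurj⟩).trans
      ((MulEquiv.piCongrRight fun _ => (Shrink.mulEquiv.{0} (α := G ⧸ M)).symm).trans
        { Equiv.arrowCongr s.equivFin (Equiv.refl _) with map_mul' := fun _ _ => rfl })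
  refine ⟨Shrink.{0} (G ⧸ M), inferInstance, ?_, s.card, ?_, ⟨e⟩⟩
  · haveI : Nontrivial (Shrink.{0} (G ⧸ M)) := (Shrink.mulEquiv.{0} (α := G ⧸ M)).symm.injective.nontrivial
    exact IsSimpleGroup.isSimpleGroup_of_surjective (Shrink.mulEquiv.{0} (α := G ⧸ M)).symm.toMonoidHom
      (Shrink.mulEquiv.{0} (α := G ⧸ M)).symm.surjective
  · rcases Nat.eq_zero_or_pos s.card with h0 | h0
    · haveI : IsEmpty (Fin s.card) := by rw [h0]; infer_instance
      exact absurd e.toEquiv.subsingleton (not_subsingleton G)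
    · exact h0

end Cfsg.Agent.Lib.CharSimple
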