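import Mathlib
import Cfsg.Agent.Lib.CharSimple.Basic

/-! Automorphisms and subdirect subgroups of powers of a non-abelian simple group. -/

set_option autoImplicit false
set_option linter.unusedSectionVars false

namespace Cfsg.Agent.Lib.CharSimple

variable {S ι : Type*} [Group S] [IsSimpleGroup S] [Fintype ι] [DecidableEq ι]

theorem coord_unique {a b : ι} (h : ∀ x : ι → S, x a = 1 ↔ x b = 1) : a = b := by
  by_contra hab
  obtain ⟨s, hs⟩ := exists_ne (1 : S)
  have := (h (Pi.mulSingle a s)).mpr (by simp [Ne.symm hab])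
  exact hs (by rwa [Pi.mulSingle_eq_same] at this)

/-- An automorphism of a power of a non-abelian simple group permutes the coordinates. -/
theorem exists_perm (hS : ¬ IsMulCommutative S) (φ : (ι → S) ≃* (ι → S)) :
    ∃ σ : Equiv.Perm ι, (∀ i x, φ x (σ i) = φ (Pi.mulSingle i (x i)) (σ i)) ∧
      ∀ i x, x i = 1 ↔ φ x (σ i) = 1 := by
  classical
  let Hs : ι → Subgroup (ι → S) := fun i =>
    ((MonoidHom.mulSingle (fun _ : ι => S) i).range).map φ.toMonoidHom
  have hn : ∀ i, (Hs i).Normal := fun i => by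
    refine Subgroup.Normal.map ⟨?_⟩ _ φ.surjective
    rintro _ ⟨s, rfl⟩ g
    refine ⟨g i * s * (g i)⁻¹, ?_⟩
    ext l
    rcases eq_or_ne l i with rfl | hl
    · simp
    · simp [hl]
  have hT := fun i => @normal_pi_eq_subproduct S ι _ _ _ hS (Hs i) (hn i)
  choose T hT using hT
  have hmem : ∀ i s, φ (Pi.mulSingle i s) ∈ Hs i := fun i s => ⟨_, ⟨s, rfl⟩, rfl⟩
  obtain ⟨s₀, hs₀⟩ := exists_ne (1 : S)
  have hne : ∀ i, (T i).Nonempty := by
    intro i
    by_contra h
    rw [Finset.not_nonempty_iff_eq_empty] at h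
    have h1 : φ (Pi.mulSingle i s₀) = 1 := funext fun l =>
      (hT i _).mp (hmem i s₀) l (by simp [h])
    rw [map_eq_one_iff φ φ.injective, Pi.mulSingle_eq_one_iff] at h1
    exact hs₀ h1
  have hdisj : ∀ i j l, l ∈ T i → l ∈ T j → i = j := by
    intro i j l hi hj
    by_contra hij
    have h1 : (Pi.mulSingle l s₀ : ι → S) ∈ Hs i := (hT i _).mpr fun a ha => by
      have hal : a ≠ l := fun e => ha (e ▸ hi)
      simp [hal]
    have h2 : (Pi.mulSingle l s₀ : ι → S) ∈ Hs j := (hT j _).mpr fun a ha => by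
      have hal : a ≠ l := fun e => ha (e ▸ hj)
      simp [hal]
    obtain ⟨_, ⟨u, rfl⟩, hu⟩ := h1
    obtain ⟨_, ⟨v, rfl⟩, hv⟩ := h2
    have he : (Pi.mulSingle i u : ι → S) = Pi.mulSingle j v := φ.injective (hu.trans hv.symm)
    have hu1 : u = 1 := by
      have h3 := congrFun he i
      rwa [Pi.mulSingle_eq_same, Pi.mulSingle_eq_of_ne hij] at h3
    have h4 : (1 : ι → S) = Pi.mulSingle l s₀ := by
      rw [← hu, hu1, map_one, map_one]
    exact hs₀ (Pi.mulSingle_eq_one_iff.mp h4.symm)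
  choose f hf using hne
  have hfi : Function.Injective f := fun i j e => hdisj i j (f i) (hf i) (e ▸ hf j)
  let σ : Equiv.Perm ι := Equiv.ofBijective f
    ((Fintype.bijective_iff_injective_and_card f).mpr ⟨hfi, rfl⟩)
  have hσ : ∀ i, f i = σ i := fun i => rfl
  have hzero : ∀ i j s, i ≠ j → φ (Pi.mulSingle j s) (σ i) = 1 := fun i j s hij =>
    (hT j _).mp (hmem j s) _ fun h => hij (hdisj i j _ (hσ i ▸ hf i) h)
  have hfac : ∀ i x, φ x (σ i) = φ (Pi.mulSingle i (x i)) (σ i) := by
    intro i x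
    let g : (ι → S) →* S := (Pi.evalMonoidHom (fun _ : ι => S) (σ i)).comp φ.toMonoidHom
    have hrest : Function.update x i 1 ∈ g.ker := by
      refine Subgroup.pi_mem_of_mulSingle_mem _ fun j => ?_
      rw [MonoidHom.mem_ker]
      rcases eq_or_ne j i with rfl | hji
      · simp
      · exact hzero i j _ (Ne.symm hji)
    have hx : x = Pi.mulSingle i (x i) * Function.update x i 1 := by
      funext l
      rcases eq_or_ne l i with rfl | hl
      · simp
      · simp [hl]
    conv_lhs => rw [hx, map_mul, Pi.mul_apply]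
    rw [show φ (Function.update x i 1) (σ i) = 1 from hrest, mul_one]
  refine ⟨σ, hfac, fun i x => ⟨fun h => ?_, fun h => ?_⟩⟩
  · rw [hfac, h, Pi.mulSingle_one, map_one]; rfl
  · rw [hfac] at h
    have h1 : φ (Pi.mulSingle i (x i)) = 1 := by
      funext l
      obtain ⟨j, rfl⟩ := σ.surjective l
      rcases eq_or_ne j i with rfl | hj
      · exact h
      · exact hzero j i _ hj
    rwa [map_eq_one_iff φ φ.injective, Pi.mulSingle_eq_one_iff] at h1

variable [Finite S]

theorem vanish_symm {D : Subgroup (ι → S)} {a b : ι} (ha : ∀ t, ∃ d ∈ D, d a = t)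
    (hb : ∀ t, ∃ d ∈ D, d b = t) (h : ∀ d ∈ D, d b = 1 → d a = 1) : ∀ d ∈ D, d a = 1 → d b = 1 := by
  choose u huD hu using hb
  have key : ∀ d ∈ D, d a = u (d b) a := by
    intro d hd
    have h1 := h (d * (u (d b))⁻¹) (mul_mem hd (inv_mem (huD _)))
      (by rw [Pi.mul_apply, Pi.inv_apply, hu, mul_inv_cancel])
    rwa [Pi.mul_apply, Pi.inv_apply, mul_inv_eq_one] at h1
  have hsurj : Function.Surjective fun t => u t a := fun t => by
    obtain ⟨d, hd, rfl⟩ := ha t
    exact ⟨d b, (key d hd).symm⟩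
  intro d hd hda
  refine (Finite.injective_iff_surjective.mpr hsurj) ?_
  show u (d b) a = u 1 a
  rw [← key d hd, hda]
  exact (h _ (huD 1) (hu 1)).symm

/-- Projections of a subdirect subgroup on inequivalent coordinates are independent. -/
theorem exists_vanish (hS : ¬ IsMulCommutative S) {D : Subgroup (ι → S)}
    (hfull : ∀ i t, ∃ d ∈ D, d i = t) (a : ι) (s : Finset ι)
    (hs : ∀ b ∈ s, ∃ d ∈ D, ¬ (d a = 1 ↔ d b = 1)) (t : S) :
    ∃ d ∈ D, d a = t ∧ ∀ b ∈ s, d b = 1 := by
  induction s using Finset.induction_on generalizing t with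
  | empty => obtain ⟨d, hd, h⟩ := hfull a t; exact ⟨d, hd, h, by simp⟩
  | @insert b s hbs ih =>
    let V : Finset ι → Subgroup (ι → S) := fun u =>
      { carrier := {d | d ∈ D ∧ ∀ c ∈ u, d c = 1}
        one_mem' := ⟨one_mem D, fun _ _ => rfl⟩
        mul_mem' := fun {x y} hx hy => ⟨mul_mem hx.1 hy.1, fun c hc => by simp [hx.2 c hc, hy.2 c hc]⟩
        inv_mem' := fun {x} hx => ⟨inv_mem hx.1, fun c hc => by simp [hx.2 c hc]⟩ }
    let im : Finset ι → Subgroup S := fun u => (V u).map (Pi.evalMonoidHom (fun _ : ι => S) a)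
    have hnorm : ∀ u, (im u).Normal := fun u => ⟨by
      rintro _ ⟨d, hd, rfl⟩ g
      obtain ⟨e, he, rfl⟩ := hfull a g
      exact ⟨e * d * e⁻¹, ⟨mul_mem (mul_mem he hd.1) (inv_mem he), fun c hc => by simp [hd.2 c hc]⟩, by simp⟩⟩
    have htopb : im {b} = ⊤ := by
      refine ((hnorm {b}).eq_bot_or_eq_top).resolve_left fun hbot => ?_
      obtain ⟨d, hd, hne⟩ := hs b (Finset.mem_insert_self b s)
      have h : ∀ d ∈ D, d b = 1 → d a = 1 := fun d hd hdb =>
        Subgroup.mem_bot.mp (hbot ▸ (⟨d, ⟨hd, fun c hc => by rw [Finset.mem_singleton.mp hc, hdb]⟩, rfl⟩ :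
          d a ∈ im {b}))
      exact hne ⟨vanish_symm (hfull a) (hfull b) h d hd, h d hd⟩
    have htop : im (insert b s) = ⊤ := by
      refine ((hnorm (insert b s)).eq_bot_or_eq_top).resolve_left fun hbot => hS (IsMulCommutative.of_comm fun x y => ?_)
      obtain ⟨d, hd, rfl, hds⟩ := ih (fun c hc => hs c (Finset.mem_insert_of_mem hc)) x
      obtain ⟨e, he, rfl⟩ : y ∈ im {b} := htopb ▸ Subgroup.mem_top y
      have hm : d a * e a * (d a)⁻¹ * (e a)⁻¹ ∈ im (insert b s) := by
        refine ⟨d * e * d⁻¹ * e⁻¹, ⟨mul_mem (mul_mem (mul_mem hd he.1) (inv_mem hd)) (inv_mem he.1), fun c hc => ?_⟩, by simp⟩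
        rcases Finset.mem_insert.mp hc with rfl | hc
        · simp [he.2 c (Finset.mem_singleton_self c)]
        · simp [hds c hc]
      rw [hbot, Subgroup.mem_bot, mul_inv_eq_one, mul_inv_eq_iff_eq_mul] at hm
      exact hm
    obtain ⟨d, hd, rfl⟩ : t ∈ im (insert b s) := htop ▸ Subgroup.mem_top t
    exact ⟨d, hd.1, rfl, hd.2⟩

/-- A subdirect subgroup is a product of twisted diagonals over the classes of coordinates. -/
theorem exists_diagonal (hS : ¬ IsMulCommutative S) {D : Subgroup (ι → S)}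
    (hfull : ∀ i t, ∃ d ∈ D, d i = t) :
    ∃ (c : ι → ι) (θ : ι → S ≃* S), (∀ i, c (c i) = c i) ∧
      (∀ i j, c i = c j ↔ ∀ d ∈ D, d i = 1 ↔ d j = 1) ∧
      (∀ i t, θ (c i) t = t) ∧ ∀ x, x ∈ D ↔ ∀ i, x i = θ i (x (c i)) := by
  classical
  let r : Setoid ι := ⟨fun i j => ∀ d ∈ D, d i = 1 ↔ d j = 1,
    ⟨fun _ _ _ => Iff.rfl, fun h d hd => (h d hd).symm, fun h h' d hd => (h d hd).trans (h' d hd)⟩⟩
  let c : ι → ι := fun i => (Quotient.mk r i).out
  have hci : ∀ i, ∀ d ∈ D, d (c i) = 1 ↔ d i = 1 := fun i => Quotient.exact (Quotient.mk r i).out_eq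
  have hc : ∀ i j, c i = c j ↔ ∀ d ∈ D, d i = 1 ↔ d j = 1 := fun i j =>
    ⟨fun h d hd => ((hci i d hd).symm.trans (by rw [h])).trans (hci j d hd),
      fun h => congrArg Quotient.out (Quotient.sound (s := r) h)⟩
  have hidem : ∀ i, c (c i) = c i := fun i => (hc _ _).mpr (hci i)
  choose u huD hu using hfull
  have hval : ∀ i, ∀ d ∈ D, d i = u (c i) (d (c i)) i := by
    intro i d hd
    have h := (hci i (d * (u (c i) (d (c i)))⁻¹) (mul_mem hd (inv_mem (huD _ _)))).mp
      (by rw [Pi.mul_apply, Pi.inv_apply, hu, mul_inv_cancel])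
    rwa [Pi.mul_apply, Pi.inv_apply, mul_inv_eq_one] at h
  let θh : ι → S →* S := fun i => MonoidHom.mk' (fun t => u (c i) t i) fun x y => by
    have h := hval i _ (mul_mem (huD (c i) x) (huD (c i) y))
    simp only [Pi.mul_apply, hu] at h
    exact h.symm
  have hθb : ∀ i, Function.Bijective (θh i) := fun i => by
    have hsurj : Function.Surjective (θh i) := fun t => ⟨u i t (c i), ((hval i _ (huD i t)).symm).trans (hu i t)⟩
    exact ⟨Finite.injective_iff_surjective.mpr hsurj, hsurj⟩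
  let θ : ι → S ≃* S := fun i => MulEquiv.ofBijective (θh i) (hθb i)
  refine ⟨c, θ, hidem, hc, fun i t => ?_, fun x => ⟨fun hx i => hval i x hx, fun hx => ?_⟩⟩
  · show u (c (c i)) t (c i) = t
    rw [hidem]; exact hu _ _
  · have key : ∀ s : Finset ι, (∀ a ∈ s, c a = a) → ∀ y : ι → S, ∃ d ∈ D, ∀ a, c a = a → d a = if a ∈ s then y a else 1 := by
      intro s
      induction s using Finset.induction_on with
      | empty => exact fun _ y => ⟨1, one_mem D, fun a _ => by simp⟩
      | @insert b s hbs ih =>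
        intro hs y
        obtain ⟨d, hd, hd'⟩ := ih (fun a ha => hs a (Finset.mem_insert_of_mem ha)) y
        have hb : c b = b := hs b (Finset.mem_insert_self b s)
        obtain ⟨e, he, he1, he2⟩ := exists_vanish hS (fun i t => ⟨u i t, huD i t, hu i t⟩) b
          (Finset.univ.filter fun a => c a = a ∧ a ≠ b) (fun a ha => by
            obtain ⟨ha1, ha2⟩ := (Finset.mem_filter.mp ha).2
            by_contra h
            push Not at h
            exact ha2 (by rw [← ha1, ← hb]; exact ((hc b a).mpr h).symm)) (y b)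
        refine ⟨d * e, mul_mem hd he, fun a ha => ?_⟩
        rcases eq_or_ne a b with rfl | hab
        · rw [Pi.mul_apply, hd' a ha, if_neg hbs, if_pos (Finset.mem_insert_self a s), one_mul, he1]
        · rw [Pi.mul_apply, he2 a (Finset.mem_filter.mpr ⟨Finset.mem_univ _, ha, hab⟩), mul_one, hd' a ha]
          simp [hab]
    obtain ⟨d, hd, hd'⟩ := key (Finset.univ.filter fun a => c a = a) (fun a ha => (Finset.mem_filter.mp ha).2) x
    have hdx : d = x := funext fun i => by
      have h1 := hd' (c i) (hidem i)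
      rw [if_pos (by simp [hidem])] at h1
      rw [hval i d hd, h1]
      exact (hx i).symm
    exact hdx ▸ hd

end Cfsg.Agent.Lib.CharSimple
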